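import Groth.Prelude.Def_Red
import Groth.Agent.Lib.Hopf.FiniteGroupPow
import Mathlib.AlgebraicGeometry.Morphisms.FlatRank
import Mathlib.RingTheory.Finiteness.ModuleFinitePresentation
import Mathlib.AlgebraicGeometry.Properties

/-!
A finite locally free group scheme of rank `n` over a reduced base is killed by `n`.
-/

universe u

open CategoryTheory Limits MonoidalCategory CartesianMonoidalCategory MonObj GrpObj AlgebraicGeometry
open WithConv
open scoped TensorProduct

namespace GrothLib.GrpDeligneReduced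

variable {R : Type u} [CommRing R]

theorem convPow_baseChange {A : Type u} [CommRing A] [Bialgebra R A] (K : Type u) [CommRing K] [Algebra R K]
    (n : ℕ) (a : A) :
    (1 : K) ⊗ₜ[R] ((toConv (AlgHom.id R A)) ^ n).ofConv a =
      ((toConv (AlgHom.id K (K ⊗[R] A))) ^ n).ofConv ((1 : K) ⊗ₜ[R] a) := by
  induction n generalizing a with
  | zero =>
    rw [pow_zero, pow_zero]
    change (1 : K) ⊗ₜ[R] algebraMap R A (Coalgebra.counit a) =
      algebraMap K (K ⊗[R] A) (Coalgebra.counit (R := K) ((1 : K) ⊗ₜ[R] a))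
    simp [Algebra.algebraMap_eq_smul_one, TensorProduct.smul_tmul', Algebra.TensorProduct.one_def]
  | succ n ih =>
    rw [pow_succ, pow_succ, AlgHom.convMul_apply, AlgHom.convMul_apply, TensorProduct.comul_tmul,
      CommSemiring.comul_apply]
    induction Coalgebra.comul (R := R) a using TensorProduct.induction_on with
    | zero => simp
    | tmul x y => simp [← ih]
    | add x y hx hy => rw [TensorProduct.tmul_add, map_add, map_add, TensorProduct.tmul_add, hx, hy, map_add]

theorem eq_zero_of_forall_fibre [_root_.IsReduced R] {M : Type u} [AddCommGroup M] [Module R M]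
    [Module.Projective R M] (x : M)
    (h : ∀ p : PrimeSpectrum R, (1 : p.asIdeal.ResidueField) ⊗ₜ[R] x = 0) : x = 0 := by
  obtain ⟨s, hs⟩ := Module.projective_def.1 (inferInstance : Module.Projective R M)
  rw [← hs x]
  suffices s x = 0 by rw [this, map_zero]
  ext m
  rw [Finsupp.zero_apply]
  refine (nilpotent_iff_mem_prime.2 fun J hJ => ?_).eq_zero
  have h1 := congrArg (((Finsupp.lapply m).comp s).lTensor (Ideal.ResidueField J)) (h ⟨J, hJ⟩)
  rw [map_zero, LinearMap.lTensor_tmul] at h1
  have h2 := congrArg (TensorProduct.rid R (Ideal.ResidueField J)) h1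
  rw [map_zero, TensorProduct.rid_tmul, Algebra.smul_def, _root_.mul_one] at h2
  rw [← Ideal.ker_algebraMap_residueField J]
  exact h2

theorem convPow_of_reduced [_root_.IsReduced R] {H : Type u} [CommRing H] [HopfAlgebra R H] [Module.Finite R H]
    [Module.Projective R H] (n : ℕ) (hn : ∀ p : PrimeSpectrum R, Module.rankAtStalk (R := R) H p = n) :
    (toConv (AlgHom.id R H)) ^ n = 1 := by
  refine WithConv.ext (AlgHom.ext fun a => sub_eq_zero.1 (eq_zero_of_forall_fibre (R := R) (M := H) _ fun p => ?_))
  have hr : Module.finrank p.asIdeal.ResidueField (p.asIdeal.ResidueField ⊗[R] H) = n := by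
    have h := Module.rankAtStalk_baseChange (R := R) (M := H)
      (⟨⊥, Ideal.isPrime_bot⟩ : PrimeSpectrum p.asIdeal.ResidueField)
    rw [Module.rankAtStalk_eq_finrank_of_free, hn] at h
    exact h
  have h0 := convPow_baseChange (R := R) (A := H) p.asIdeal.ResidueField n a
  have h1 := convPow_baseChange (R := R) (A := H) p.asIdeal.ResidueField 0 a
  rw [TensorProduct.tmul_sub, h0, ← hr, GrothLib.Hopf.FiniteRank.convPow_finrank, sub_eq_zero]
  rw [pow_zero, pow_zero] at h1
  exact h1.symm

theorem pow_id_eq_one_spec [_root_.IsReduced R] (G : Over (Spec (CommRingCat.of R))) [GrpObj G] 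
    [IsFinite G.hom] [Flat G.hom] [LocallyOfFinitePresentation G.hom]
    (n : ℕ) (hn : ∀ s, Scheme.Hom.finrank G.hom s = n) : (𝟙 G) ^ n = 1 := by
  have haff : IsAffine G.left := isAffine_of_isAffineHom G.hom
  obtain ⟨H', ⟨e⟩⟩ := (essImage_hopfSpec (R := CommRingCat.of R) (G := Grp.mk G)).2 haff
  obtain ⟨H, rfl⟩ : ∃ H, Opposite.op H = H' := ⟨H'.unop, rfl⟩
  let P : Over (Spec (CommRingCat.of R)) :=
    (Spec (CommRingCat.of (H : Type u))).asOver (Spec (CommRingCat.of R))
  let i : P ≅ G := (Grp.forget _).mapIso e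
  haveI : IsMonHom i.hom := e.hom.hom.isMonHom_hom
  haveI : IsFinite (Spec.map (CommRingCat.ofHom (algebraMap R H))) := by
    have : IsFinite P.hom := by rw [← Over.w i.hom]; infer_instance
    exact this
  haveI : Flat (Spec.map (CommRingCat.ofHom (algebraMap R H))) := by
    have : Flat P.hom := by rw [← Over.w i.hom]; infer_instance
    exact this
  haveI : LocallyOfFinitePresentation (Spec.map (CommRingCat.ofHom (algebraMap R H))) := by
    have : LocallyOfFinitePresentation P.hom := by rw [← Over.w i.hom]; infer_instance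
    exact this
  haveI : Module.Finite R H := RingHom.finite_algebraMap.1 ((IsFinite.SpecMap_iff _).1 ‹_›)
  haveI : Module.Flat R H := (RingHom.flat_algebraMap_iff).1 ((Flat.SpecMap_iff).1 ‹_›)
  haveI : Algebra.FinitePresentation R H := RingHom.finitePresentation_algebraMap.1
    ((HasRingHomProperty.Spec_iff (P := @LocallyOfFinitePresentation)).1 ‹_›)
  haveI : Module.FinitePresentation R H := Module.FinitePresentation.of_finite_of_finitePresentation R H
  haveI : Module.Projective R H := Module.Flat.projective_of_finitePresentation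
  have hrk : ∀ q : PrimeSpectrum R, Module.rankAtStalk (R := R) (H : Type u) q = n := fun q => by
    rw [← Scheme.Hom.finrank_SpecMap_algebraMap]
    have : P.hom = i.hom.left ≫ G.hom := (Over.w i.hom).symm
    change Scheme.Hom.finrank P.hom q = n
    rw [this, Scheme.Hom.finrank_comp_left_of_isIso]
    exact hn q
  have key := congrArg (Spec.mapMulEquiv (R := R) (S := (H : Type u)) (T := (H : Type u)))
    (convPow_of_reduced n hrk)
  rw [map_pow, map_one] at key
  have hid : Spec.mapMulEquiv (R := R) (S := (H : Type u)) (T := (H : Type u))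
      (WithConv.toConv (AlgHom.id R H)) = 𝟙 P := by
    ext1
    exact Spec.map_id _
  rw [hid] at key
  rw [← cancel_epi i.hom]
  calc i.hom ≫ (𝟙 G) ^ n = (i.hom ≫ 𝟙 G) ^ n := MonObj.comp_pow _ _ _
    _ = (𝟙 P ≫ i.hom) ^ n := by rw [Category.comp_id, Category.id_comp]
    _ = (𝟙 P ^ n) ≫ i.hom := (MonObj.pow_comp _ _ _).symm
    _ = (1 : P ⟶ P) ≫ i.hom := congrArg (· ≫ i.hom) key
    _ = i.hom ≫ 1 := by rw [MonObj.one_comp, MonObj.comp_one]

theorem fst_comp_pow_id {S : Scheme.{u}} [IsReduced S] (G : Over S) [GrpObj G] 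
    [IsFinite G.hom] [Flat G.hom] [LocallyOfFinitePresentation G.hom]
    (n : ℕ) (hn : ∀ s, Scheme.Hom.finrank G.hom s = n) {C : CommRingCat.{u}} (j : Spec C ⟶ S) (hC : IsReduced (Spec C)) :
    pullback.fst G.hom j ≫ ((𝟙 G) ^ n : G ⟶ G).left = pullback.fst G.hom j ≫ (1 : G ⟶ G).left := by
  haveI : _root_.IsReduced C := (affine_isReduced_iff C).1 hC
  haveI : IsFinite (Red.bc j G).hom := (inferInstance : IsFinite (pullback.snd G.hom j))
  haveI : Flat (Red.bc j G).hom := (inferInstance : Flat (pullback.snd G.hom j))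
  haveI : LocallyOfFinitePresentation (Red.bc j G).hom := (inferInstance : LocallyOfFinitePresentation (pullback.snd G.hom j))
  have h1 : (𝟙 (Red.bc j G)) ^ n = 1 :=
    pow_id_eq_one_spec (R := _) (Red.bc j G) n fun s =>
      (Scheme.Hom.finrank_pullback_snd _ _ _).trans (hn _)
  let c : (Over.map j).obj (Red.bc j G) ⟶ G := (Over.mapPullbackAdj j).counit.app G
  let E : ((Over.map j).obj (Red.bc j G) ⟶ G) ≃* (Red.bc j G ⟶ Red.bc j G) :=
    { toEquiv := (Over.mapPullbackAdj j).homEquiv _ _
      map_mul' := fun a b => by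
        change (Over.mapPullbackAdj j).homEquiv _ _ (a * b) = _
        simp only [Adjunction.homEquiv_unit, Functor.map_mul, MonObj.comp_mul]
        rfl }
  have hc : E c = 𝟙 _ := (Over.mapPullbackAdj j).right_triangle_components G
  have h2 : c ^ n = 1 := E.injective (by rw [map_pow, hc, h1, map_one])
  have h3 : c ≫ (𝟙 G) ^ n = c ≫ 1 := by
    rw [MonObj.comp_pow, Category.comp_id, h2, MonObj.comp_one]
  have h4 := congrArg CommaMorphism.left h3
  exact h4

theorem pow_id_eq_one {S : Scheme.{u}} [IsReduced S] (G : Over S) [GrpObj G] 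
    [IsFinite G.hom] [Flat G.hom] [LocallyOfFinitePresentation G.hom]
    (n : ℕ) (hn : ∀ s, Scheme.Hom.finrank G.hom s = n) : (𝟙 G) ^ n = 1 :=
  Over.OverMorphism.ext (Scheme.Cover.hom_ext (S.affineCover.pullback₁ G.hom) _ _
    fun x => by
      haveI := isReduced_of_isOpenImmersion (S.affineCover.f x)
      exact fst_comp_pow_id G n hn (S.affineCover.f x) ‹_›)

end GrothLib.GrpDeligneReduced
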